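import Groth.Prelude.Def_LocRes
import Groth.Agent.ResUnif.Basic

/-! Residues of exact differentials `g^N dg` vanish in every characteristic; logarithmic residue. -/

universe u

open PowerSeries HahnSeries

noncomputable section

namespace Groth.Agent.LocResLib

theorem coeff_pow_mul_derivative {R : Type u} [CommRing R] (w : R⟦X⟧) (N k a : ℕ) (hk : k + 1 = a * (N + 1)) :
    PowerSeries.coeff k (w ^ N * derivative R w) = a * PowerSeries.coeff (k + 1) (w ^ (N + 1)) := by
  let W : (MvPolynomial ℕ ℤ)⟦X⟧ := mk fun i => MvPolynomial.X i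
  let φ : MvPolynomial ℕ ℤ →+* R := MvPolynomial.eval₂Hom (Int.castRingHom R) fun i => PowerSeries.coeff i w
  have hW : PowerSeries.map φ W = w := by ext i; simp [W, φ]
  have key : PowerSeries.coeff k (W ^ N * derivative _ W) = a * PowerSeries.coeff (k + 1) (W ^ (N + 1)) := by
    have h := congrArg (PowerSeries.coeff k) (Derivation.leibniz_pow (derivative (MvPolynomial ℕ ℤ)) W (N + 1))
    rw [coeff_derivative, map_nsmul, smul_eq_mul, Nat.add_sub_cancel, nsmul_eq_mul] at h
    refine mul_left_cancel₀ (Nat.cast_add_one_ne_zero (R := MvPolynomial ℕ ℤ) N) ?_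
    have hk' : (k : MvPolynomial ℕ ℤ) + 1 = a * ((N : MvPolynomial ℕ ℤ) + 1) := by exact_mod_cast hk
    push_cast at h
    linear_combination -h + PowerSeries.coeff (k + 1) (W ^ (N + 1)) * hk'
  have := congrArg φ key
  rw [RingHom.map_mul φ, map_natCast φ, ← PowerSeries.coeff_map, ← PowerSeries.coeff_map] at this
  simpa [map_pow, map_mul, ResUnif.map_derivative, hW] using this

variable {F : Type u} [Field F]

theorem exists_unit_decomp (g : LaurentSeries F) :
    ∃ (m : ℤ) (u : F⟦X⟧), g = single m 1 * (u : LaurentSeries F) :=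
  ⟨_, _, g.single_order_mul_powerSeriesPart.symm⟩

theorem res_pow_mul_D (g : LaurentSeries F) (N : ℕ) : LocRes.res F (g ^ N * LocRes.D F g) = 0 := by
  obtain ⟨m, u, rfl⟩ := exists_unit_decomp g
  rw [LocRes.res_apply, LocRes.D_apply, LocRes.derivative_single_mul, LocRes.derivative_coe, zsmul_one]
  have e : (single m (1 : F) * (u : LaurentSeries F)) ^ N *
      (single m 1 * ((derivative F u : F⟦X⟧) : LaurentSeries F) + single (m - 1) (m : F) * (u : LaurentSeries F)) =
      single (N • m + m) (1 : F) * ((u ^ N * derivative F u : F⟦X⟧) : LaurentSeries F) +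
      single (N • m + (m - 1)) (m : F) * ((u ^ (N + 1) : F⟦X⟧) : LaurentSeries F) := by
    rw [mul_pow, HahnSeries.single_pow, one_pow, mul_add]
    have hs : ∀ (i j : ℤ) (c : F), single (i + j) c = single i (1 : F) * single j c := fun i j c => by
      rw [single_mul_single, one_mul]
    rw [hs (N • m) m 1, hs (N • m) (m - 1) (m : F), PowerSeries.coe_mul, PowerSeries.coe_pow, PowerSeries.coe_pow]
    ring
  rw [e, HahnSeries.coeff_add, coeff_single_mul, coeff_single_mul, one_mul]
  rcases le_or_gt 0 m with hm | hm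
  · have h1 : (-1 : ℤ) - (N • m + m) < 0 := by rw [nsmul_eq_mul]; have : 0 ≤ (N : ℤ) * m := by positivity
                                               omega
    have ofneg : ∀ (w : F⟦X⟧) {j : ℤ}, j < 0 → (w : LaurentSeries F).coeff j = 0 := fun w j hj => by
      rw [PowerSeries.coeff_coe, if_pos hj]
    rcases hm.eq_or_lt with rfl | hm'
    · rw [ofneg _ h1, Int.cast_zero, zero_mul, add_zero]
    · rw [ofneg _ h1, ofneg _ (by rw [nsmul_eq_mul]; have : 0 ≤ (N : ℤ) * m := by positivity
                                  omega), mul_zero, add_zero]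
  · obtain ⟨a, ha⟩ : ∃ a : ℕ, m = -((a : ℤ) + 1) := ⟨(-m - 1).toNat, by omega⟩
    obtain ⟨k, hk⟩ : ∃ k : ℕ, k + 1 = (a + 1) * (N + 1) := ⟨(a + 1) * (N + 1) - 1, by
      have : 0 < (a + 1) * (N + 1) := by positivity
      omega⟩
    have hk' : (k : ℤ) + 1 = ((a : ℤ) + 1) * ((N : ℤ) + 1) := by exact_mod_cast hk
    have e1 : (-1 : ℤ) - (N • m + m) = (k : ℤ) := by rw [nsmul_eq_mul, ha]; linear_combination -hk'
    have e2 : (-1 : ℤ) - (N • m + (m - 1)) = ((k + 1 : ℕ) : ℤ) := by
      rw [nsmul_eq_mul, ha]; push_cast; linear_combination -hk'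
    rw [e1, e2, HahnSeries.ofPowerSeries_apply_coeff, HahnSeries.ofPowerSeries_apply_coeff,
      coeff_pow_mul_derivative u N k (a + 1) hk, ha]
    push_cast
    ring

theorem D_inv (g : LaurentSeries F) (_hg : g ≠ 0) : LocRes.D F g⁻¹ = -(g⁻¹ ^ 2 * LocRes.D F g) := by
  rw [Derivation.leibniz_inv, smul_eq_mul, neg_mul]

theorem res_zpow_mul_D (g : LaurentSeries F) {n : ℤ} (hn : n ≠ 0) :
    LocRes.res F (g ^ (n - 1) * LocRes.D F g) = 0 := by
  rcases eq_or_ne g 0 with rfl | hg
  · simp
  rcases lt_or_gt_of_ne hn with h | h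
  · obtain ⟨N, rfl⟩ : ∃ N : ℕ, n = -((N : ℤ) + 1) := ⟨(-n - 1).toNat, by omega⟩
    have e : g ^ (-((N : ℤ) + 1) - 1) * LocRes.D F g = -(g⁻¹ ^ N * LocRes.D F g⁻¹) := by
      rw [D_inv g hg, mul_neg, neg_neg, ← mul_assoc, ← _root_.pow_add, inv_pow, ← zpow_natCast, ← zpow_neg]
      congr 2
    rw [e, map_neg, res_pow_mul_D, neg_zero]
  · obtain ⟨N, rfl⟩ : ∃ N : ℕ, n = (N : ℤ) + 1 := ⟨(n - 1).toNat, by omega⟩
    rw [add_sub_cancel_right, zpow_natCast, res_pow_mul_D]

/-- `res (g⁻¹ dg)` is the order of `g`. -/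
theorem res_inv_mul_D {g : LaurentSeries F} (hg : g ≠ 0) :
    LocRes.res F (g⁻¹ * LocRes.D F g) = (g.order : F) := by
  set u : F⟦X⟧ := LaurentSeries.powerSeriesPart g with hu
  set m : ℤ := g.order
  have hgd : g = single m 1 * (u : LaurentSeries F) := g.single_order_mul_powerSeriesPart.symm
  have hu0 : PowerSeries.constantCoeff u ≠ 0 := by
    rw [← PowerSeries.coeff_zero_eq_constantCoeff_apply, hu, LaurentSeries.powerSeriesPart_coeff, Nat.cast_zero, add_zero]
    exact HahnSeries.coeff_order_eq_zero.not.mpr hg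
  have hinv : g⁻¹ = single (-m) 1 * ((u⁻¹ : F⟦X⟧) : LaurentSeries F) := by
    refine inv_eq_of_mul_eq_one_right ?_
    rw [hgd, mul_mul_mul_comm, single_mul_single, ← PowerSeries.coe_mul, PowerSeries.mul_inv_cancel u hu0,
      PowerSeries.coe_one, add_neg_cancel, mul_one, mul_one]
    rfl
  have e : g⁻¹ * LocRes.D F g = ((u⁻¹ * derivative F u : F⟦X⟧) : LaurentSeries F) + single (-1 : ℤ) (m : F) := by
    rw [hinv, hgd, LocRes.D_apply, LocRes.derivative_single_mul, LocRes.derivative_coe, zsmul_one, mul_add,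
      mul_mul_mul_comm, single_mul_single, mul_mul_mul_comm, single_mul_single, ← PowerSeries.coe_mul,
      ← PowerSeries.coe_mul, PowerSeries.inv_mul_cancel u hu0, PowerSeries.coe_one, neg_add_cancel, one_mul, mul_one,
      one_mul, show -m + (m - 1) = -1 by ring]
    congr 1
    exact one_mul _
  rw [e, LocRes.res_apply, HahnSeries.coeff_add, coeff_single_same, PowerSeries.coeff_coe, if_pos (by norm_num),
    zero_add]

theorem res_coe (f : F⟦X⟧) : LocRes.res F (f : LaurentSeries F) = 0 := by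
  rw [LocRes.res_apply, PowerSeries.coeff_coe, if_pos (by norm_num)]

theorem order_eq_of_val {g : LaurentSeries F} (hg : g ≠ 0) :
    Valued.v g = WithZero.exp (-g.order) := by
  set u : F⟦X⟧ := LaurentSeries.powerSeriesPart g with hu
  have hu0 : PowerSeries.constantCoeff u ≠ 0 := by
    rw [← PowerSeries.coeff_zero_eq_constantCoeff_apply, hu, LaurentSeries.powerSeriesPart_coeff, Nat.cast_zero, add_zero]
    exact HahnSeries.coeff_order_eq_zero.not.mpr hg
  have h1 : Valued.v (u : LaurentSeries F) = 1 := by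
    have le1 : ∀ w : F⟦X⟧, Valued.v (w : LaurentSeries F) ≤ 1 := fun w => (LaurentSeries.val_le_one_iff_eq_coe F _).2 ⟨w, rfl⟩
    refine le_antisymm (le1 _) ?_
    calc (1 : WithZero (Multiplicative ℤ)) = Valued.v ((u : LaurentSeries F) * ((u⁻¹ : F⟦X⟧) : LaurentSeries F)) := by
          rw [← PowerSeries.coe_mul, PowerSeries.mul_inv_cancel u hu0, PowerSeries.coe_one, map_one]
      _ ≤ Valued.v (u : LaurentSeries F) := by rw [map_mul]; exact mul_le_of_le_one_right' (le1 _)
  conv_lhs => rw [← g.single_order_mul_powerSeriesPart]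
  rw [map_mul, LaurentSeries.valuation_single_zpow, ← hu, h1, mul_one]

end Groth.Agent.LocResLib
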